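import Groth.Agent.ThetaLib.Rep

/-!
Existence of an irreducible weight one representation.
-/

set_option linter.unusedSectionVars false

universe u v w

namespace Groth.Agent.ThetaLib

open Representation

variable {k : Type u} [Field k] {Γ : Type v} [Group Γ] {ι : kˣ →* Γ} (hΓ : Good ι)

/-- functions of weight one -/
def regSpace (ι : kˣ →* Γ) : Submodule k (Γ → k) where
  carrier := {f | ∀ (z : kˣ) (g : Γ), f (ι z * g) = (z : k) * f g}
  zero_mem' z g := by simp
  add_mem' ha hb z g := by simp [ha z g, hb z g, mul_add]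
  smul_mem' c a ha z g := by simp [ha z g, mul_left_comm]

/-- the regular weight one representation -/
def regRep (ι : kˣ →* Γ) : Representation k Γ (regSpace ι) where
  toFun g :=
    { toFun := fun f => ⟨fun x => f.1 (x * g), fun z x => by
        show f.1 (ι z * x * g) = _
        rw [mul_assoc]
        exact f.2 z _⟩
      map_add' := fun _ _ => rfl
      map_smul' := fun _ _ => rfl }
  map_one' := LinearMap.ext fun f => Subtype.ext (funext fun x => congrArg f.1 (mul_one x))
  map_mul' g h := LinearMap.ext fun f => Subtype.ext (funext fun x => congrArg f.1 (mul_assoc x g h).symm)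

include hΓ in
theorem wt_regRep : Wt ι (regRep ι) := fun z f => Subtype.ext (funext fun x => by
  show f.1 (x * ι z) = (z : k) * f.1 x
  rw [← (hΓ.commute z x).eq]
  exact f.2 z x)

include hΓ in
theorem regRep_ne_zero : ∃ f : regSpace ι, f ≠ 0 := by
  classical
  let φ : Γ → k := fun x => if h : ∃ z, ι z = x then (h.choose : k) else 0
  have hφ : ∀ z : kˣ, φ (ι z) = z := fun z => by
    have h : ∃ z', ι z' = ι z := ⟨z, rfl⟩
    simp only [φ, dif_pos h]
    rw [hΓ.inj h.choose_spec]
  have hmem : φ ∈ regSpace ι := by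
    intro z g
    by_cases h : ∃ z', ι z' = g
    · obtain ⟨z', rfl⟩ := h
      rw [← map_mul, hφ, hφ, Units.val_mul]
    · have h' : ¬ ∃ z', ι z' = ι z * g := by
        rintro ⟨z', hz'⟩
        exact h ⟨z⁻¹ * z', by rw [map_mul, hz', map_inv, inv_mul_cancel_left]⟩
      simp only [φ, dif_neg h, dif_neg h', mul_zero]
  refine ⟨⟨φ, hmem⟩, fun e => ?_⟩
  have h1 : φ (ι 1) = 0 := congrFun (congrArg Subtype.val e) (ι 1)
  rw [hφ, Units.val_one] at h1
  exact one_ne_zero h1

theorem finite_regSpace {K : Type*} [Group K] [Finite K] {q : Γ →* K} (hq : Function.Surjective q)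
    (hker : q.ker = ι.range) : FiniteDimensional k (regSpace ι) := by
  let L : regSpace ι →ₗ[k] (K → k) :=
    { toFun := fun f x => f.1 (Function.surjInv hq x)
      map_add' := fun _ _ => rfl
      map_smul' := fun _ _ => rfl }
  refine FiniteDimensional.of_injective L fun f f' h => Subtype.ext (funext fun g => ?_)
  obtain ⟨z, hz⟩ : g * (Function.surjInv hq (q g))⁻¹ ∈ ι.range := by
    rw [← hker, MonoidHom.mem_ker, map_mul, map_inv, Function.surjInv_eq hq, mul_inv_cancel]
  rw [show g = ι z * Function.surjInv hq (q g) by rw [hz, inv_mul_cancel_right], f.2, f'.2]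
  exact congrArg _ (congrFun h (q g))

theorem exists_irreducible_sub {V : Type w} [AddCommGroup V] [Module k V] [FiniteDimensional k V]
    (ρ : Representation k Γ V) [Nontrivial V] :
    ∃ U : Subrepresentation ρ, IsIrreducible U.toRepresentation := by
  classical
  have hex : ∃ n, ∃ U : Subrepresentation ρ,
      U.toSubmodule ≠ ⊥ ∧ Module.finrank k U.toSubmodule = n :=
    ⟨_, ⊤, top_ne_bot, rfl⟩
  obtain ⟨U, hU, hn⟩ := Nat.find_spec hex
  refine ⟨U, ?_⟩
  have : Nontrivial (Subrepresentation U.toRepresentation) := ⟨⟨⊥, ⊤, fun e => hU ?_⟩⟩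
  · refine ⟨fun s => ?_⟩
    let s' : Subrepresentation ρ :=
      ⟨s.toSubmodule.map U.toSubmodule.subtype, fun g v hv => by
        obtain ⟨y, hy, rfl⟩ := Submodule.mem_map.1 hv
        exact Submodule.mem_map.2 ⟨U.toRepresentation g y, s.apply_mem_toSubmodule g hy, rfl⟩⟩
    by_cases hs : s.toSubmodule = ⊥
    · exact Or.inl (Subrepresentation.toSubmodule_injective hs)
    · refine Or.inr (Subrepresentation.toSubmodule_injective ?_)
      have hne : s'.toSubmodule ≠ ⊥ := fun e =>
        hs (Submodule.map_injective_of_injective (Submodule.injective_subtype _) (e.trans (Submodule.map_bot _).symm))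
      have hle : Nat.find hex ≤ Module.finrank k s'.toSubmodule := Nat.find_min' hex ⟨s', hne, rfl⟩
      rw [← hn] at hle
      refine Submodule.eq_top_of_finrank_eq (le_antisymm (Submodule.finrank_le _) ?_)
      rwa [← (Submodule.equivMapOfInjective U.toSubmodule.subtype (Submodule.injective_subtype _)
        s.toSubmodule).finrank_eq] at *
  · have h' : (⊥ : Submodule k U.toSubmodule) = ⊤ := congrArg Subrepresentation.toSubmodule e
    have := Submodule.subsingleton_iff_eq_bot (R := k) (p := U.toSubmodule)
    refine this.1 ⟨fun a b => ?_⟩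
    have ha : a ∈ (⊥ : Submodule k U.toSubmodule) := h' ▸ Submodule.mem_top
    have hb : b ∈ (⊥ : Submodule k U.toSubmodule) := h' ▸ Submodule.mem_top
    rw [Submodule.mem_bot] at ha hb
    rw [ha, hb]

end Groth.Agent.ThetaLib
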