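import Groth.Agent.ThetaLib.Pairing
import Mathlib.Algebra.CharP.Defs
import Mathlib.Algebra.CharP.Lemmas

/-!
Packaging of the quotient of a theta group by its centre.
-/

universe u v

namespace Groth.Agent.ThetaLib

theorem natCast_ne_zero_of_coprime {k : Type u} [Field k] {n : ℕ}
    (h : n.Coprime (ringExpChar k)) (hn : n ≠ 0) : (n : k) ≠ 0 := by
  obtain ⟨q, hq⟩ := ExpChar.exists k
  rw [ringExpChar.eq k q] at h
  rcases hq with _ | hp
  · exact Nat.cast_ne_zero.2 hn
  · intro h0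
    rw [CharP.cast_eq_zero_iff k q] at h0
    exact hp.ne_one (Nat.eq_one_of_dvd_coprimes h h0 dvd_rfl)

/-- data: a finite commutative quotient by the centre -/
theorem exists_quot {k : Type u} [Field k] {Γ : Type v} [Group Γ] {ι : kˣ →* Γ} (hΓ : Good ι)
    [Finite (Γ ⧸ ι.range)] (hcop : (Nat.card (Γ ⧸ ι.range)).Coprime (ringExpChar k)) :
    ∃ (K : Type v) (_ : CommGroup K) (_ : Finite K) (q : Γ →* K),
      Function.Surjective q ∧ q.ker = ι.range ∧ (Nat.card K : k) ≠ 0 ∧
      Nat.card K = Nat.card (Γ ⧸ ι.range) := by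
  have hn : ι.range.Normal := hΓ.cent ▸ inferInstance
  let C : CommGroup (Γ ⧸ ι.range) :=
    { (inferInstance : Group (Γ ⧸ ι.range)) with
      mul_comm := fun a b => by
        obtain ⟨g, rfl⟩ := QuotientGroup.mk_surjective a
        obtain ⟨h, rfl⟩ := QuotientGroup.mk_surjective b
        rw [← QuotientGroup.mk_mul, ← QuotientGroup.mk_mul, hΓ.e_spec g h, QuotientGroup.mk_mul,
          (QuotientGroup.eq_one_iff (ι (hΓ.e g h))).2 (MonoidHom.mem_range.2 ⟨_, rfl⟩), one_mul] }
  exact ⟨Γ ⧸ ι.range, C, inferInstance, QuotientGroup.mk' ι.range, QuotientGroup.mk'_surjective _,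
    QuotientGroup.ker_mk' _, natCast_ne_zero_of_coprime hcop Nat.card_pos.ne', rfl⟩

end Groth.Agent.ThetaLib
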