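import Mathlib.GroupTheory.FiniteAbelian.Duality
import Mathlib.RingTheory.RootsOfUnity.AlgebraicallyClosed
import Mathlib.RingTheory.IntegralDomain
import Mathlib.LinearAlgebra.Dimension.Constructions
import Mathlib.LinearAlgebra.FiniteDimensional.Lemmas
import Mathlib.FieldTheory.IsAlgClosed.Basic

/-!
Simultaneous eigenspaces of a finite commutative group acting on a vector space.
-/

set_option linter.unusedSectionVars false

universe u v w

namespace Groth.Agent.ThetaLib

variable {k : Type u} [Field k] [IsSepClosed k] {G : Type v} [CommGroup G] [Finite G]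
  {W : Type w} [AddCommGroup W] [Module k W] (σ : G →* Module.End k W)

/-- the eigenspace of a character -/
def eig (χ : G →* kˣ) : Submodule k W where
  carrier := {w | ∀ g, σ g w = (χ g : k) • w}
  zero_mem' g := by simp
  add_mem' ha hb g := by rw [map_add, ha g, hb g, smul_add]
  smul_mem' c a ha g := by rw [map_smul, ha g, smul_comm]

theorem mem_eig {χ : G →* kˣ} {w : W} : w ∈ eig σ χ ↔ ∀ g, σ g w = (χ g : k) • w := Iff.rfl

theorem hasEnough (hG : (Nat.card G : k) ≠ 0) : HasEnoughRootsOfUnity k (Monoid.exponent G) := by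
  obtain ⟨c, hc⟩ := Group.exponent_dvd_nat_card (G := G)
  have : NeZero ((Monoid.exponent G : ℕ) : k) := ⟨fun h => hG (by rw [hc, Nat.cast_mul, h, zero_mul])⟩
  infer_instance

theorem card_char (hG : (Nat.card G : k) ≠ 0) : Nat.card (G →* kˣ) = Nat.card G := by
  have := hasEnough hG
  exact CommGroup.card_monoidHom_of_hasEnoughRootsOfUnity G k

theorem sum_char [Fintype G] [Fintype (G →* kˣ)] (hG : (Nat.card G : k) ≠ 0) (x : G) (hx : x ≠ 1) :
    ∑ χ : G →* kˣ, (χ x : k) = 0 := by
  have := hasEnough hG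
  obtain ⟨φ, hφ⟩ := CommGroup.exists_apply_ne_one_of_hasEnoughRootsOfUnity G k hx
  have h : (φ x : k) * ∑ χ : G →* kˣ, (χ x : k) = ∑ χ : G →* kˣ, (χ x : k) := by
    rw [Finset.mul_sum]
    exact Fintype.sum_equiv (Equiv.mulLeft φ) _ _ fun χ => by simp
  have h' : ((φ x : k) - 1) * ∑ χ : G →* kˣ, (χ x : k) = 0 := by rw [sub_mul, h, one_mul, sub_self]
  exact (mul_eq_zero.1 h').resolve_left (sub_ne_zero.2 fun e => hφ (Units.ext e))

theorem sum_inv_mul [Fintype G] {χ ψ : G →* kˣ} (h : χ ≠ ψ) :
    ∑ x : G, ((χ x)⁻¹ : kˣ).val * (ψ x : k) = 0 := by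
  have h' := sum_hom_units_eq_zero ((Units.coeHom k).comp (χ⁻¹ * ψ)) fun e => h ?_
  · simpa using h'
  · ext x
    have := DFunLike.congr_fun e x
    simp only [MonoidHom.comp_apply, MonoidHom.mul_apply, MonoidHom.inv_apply, Units.coeHom_apply,
      MonoidHom.one_apply, Units.val_eq_one, inv_mul_eq_one] at this
    rw [this]

/-- the projector onto an eigenspace -/
noncomputable def proj [Fintype G] (χ : G →* kˣ) : Module.End k W :=
  (Nat.card G : k)⁻¹ • (∑ x : G, ((χ x)⁻¹ : kˣ).val • σ x : Module.End k W)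

theorem proj_apply [Fintype G] (χ : G →* kˣ) (w : W) :
    proj σ χ w = (Nat.card G : k)⁻¹ • ∑ x : G, ((χ x)⁻¹ : kˣ).val • σ x w := by
  simp [proj, LinearMap.sum_apply]

theorem proj_mem [Fintype G] (χ : G →* kˣ) (w : W) : proj σ χ w ∈ eig σ χ := by
  intro g
  rw [proj_apply, map_smul, map_sum, smul_comm (χ g : k)]
  congr 1
  rw [Finset.smul_sum]
  refine Fintype.sum_equiv (Equiv.mulLeft g) _ _ fun x => ?_
  rw [map_smul, ← Module.End.mul_apply, ← map_mul, smul_smul, Equiv.coe_mulLeft, map_mul χ,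
    ← Units.val_mul, mul_inv_rev, mul_comm (χ x)⁻¹, ← mul_assoc, mul_inv_cancel, one_mul]

theorem proj_apply_mem [Fintype G] (hG : (Nat.card G : k) ≠ 0) {χ ψ : G →* kˣ} [Decidable (χ = ψ)] {w : W}
    (hw : w ∈ eig σ ψ) : proj σ χ w = if χ = ψ then w else 0 := by
  rw [proj_apply]
  simp only [(mem_eig σ).1 hw, smul_smul, ← Finset.sum_smul]
  split_ifs with h
  · subst h
    simp only [← Units.val_mul, inv_mul_cancel, Units.val_one, Finset.sum_const, Finset.card_univ,
      nsmul_one, ← Nat.card_eq_fintype_card, inv_mul_cancel₀ hG, one_smul]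
  · rw [sum_inv_mul h, mul_zero, zero_smul]

theorem sum_proj [Fintype G] [Fintype (G →* kˣ)] (hG : (Nat.card G : k) ≠ 0) (w : W) :
    ∑ χ : G →* kˣ, proj σ χ w = w := by
  simp only [proj_apply, ← Finset.smul_sum]
  rw [Finset.sum_comm]
  simp only [← Finset.sum_smul, ← map_inv]
  rw [Finset.sum_eq_single (1 : G)]
  · simp only [inv_one, map_one, Units.val_one, Finset.sum_const, Finset.card_univ, nsmul_one,
      ← Nat.card_eq_fintype_card, card_char hG, smul_smul, inv_mul_cancel₀ hG, one_smul,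
      Module.End.one_apply]
  · intro x _ hx
    rw [sum_char hG x⁻¹ (inv_ne_one.2 hx), zero_smul]
  · simp

theorem finrank_eq_card_mul [FiniteDimensional k W] (hG : (Nat.card G : k) ≠ 0)
    (h : ∀ χ, Module.finrank k (eig σ χ) = Module.finrank k (eig σ 1)) :
    Module.finrank k W = Nat.card G * Module.finrank k (eig σ 1) := by
  classical
  have := Fintype.ofFinite G
  have := hasEnough hG
  have hfin : Finite (G →* kˣ) :=
    .of_equiv G (CommGroup.monoidHom_mulEquiv_of_hasEnoughRootsOfUnity G k).some.symm.toEquiv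
  have := Fintype.ofFinite (G →* kˣ)
  let e : W ≃ₗ[k] ∀ χ : G →* kˣ, eig σ χ :=
    { toFun := fun w χ => ⟨proj σ χ w, proj_mem σ χ w⟩
      map_add' := fun a b => funext fun χ => Subtype.ext (map_add (proj σ χ) a b)
      map_smul' := fun c a => funext fun χ => Subtype.ext (map_smul (proj σ χ) c a)
      invFun := fun f => ∑ χ, (f χ : W)
      left_inv := sum_proj σ hG
      right_inv := fun f => funext fun χ => Subtype.ext <| by
        show proj σ χ (∑ ψ, (f ψ : W)) = _
        rw [map_sum, Finset.sum_eq_single χ]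
        · rw [proj_apply_mem σ hG (f χ).2, if_pos rfl]
        · intro ψ _ hψ
          rw [proj_apply_mem σ hG (f ψ).2, if_neg (Ne.symm hψ)]
        · simp }
  rw [e.finrank_eq, Module.finrank_pi_fintype, Finset.sum_congr rfl fun χ _ => h χ, Finset.sum_const,
    Finset.card_univ, ← Nat.card_eq_fintype_card, card_char hG, smul_eq_mul]

end Groth.Agent.ThetaLib
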