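import Groth.Agent.ThetaLib.Eigen
import Mathlib.GroupTheory.Commutator.Basic
import Mathlib.GroupTheory.Index
import Mathlib.GroupTheory.Subgroup.Centralizer

/-!
The commutator pairing of a non-degenerate theta group.
-/

set_option linter.unusedSectionVars false

universe u v w

namespace Groth.Agent.ThetaLib

variable {k : Type u} [Field k] {Γ : Type v} [Group Γ] (ι : kˣ →* Γ)

/-- the hypotheses on a theta group -/
structure Good : Prop where
  inj : Function.Injective ι
  cent : ι.range = Subgroup.center Γ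
  comm : commutator Γ ≤ ι.range

variable {ι} (hΓ : Good ι)
include hΓ

theorem Good.commute (z : kˣ) (g : Γ) : Commute (ι z) g :=
  ((Subgroup.mem_center_iff.1 (hΓ.cent ▸ (⟨z, rfl⟩ : ι z ∈ ι.range))) g).symm

theorem Good.exists_e (g h : Γ) : ∃ c, g * h = ι c * (h * g) := by
  have hmem : g * h * g⁻¹ * h⁻¹ ∈ commutator Γ := by
    rw [commutator_def]
    exact Subgroup.commutator_mem_commutator (Subgroup.mem_top g) (Subgroup.mem_top h)
  obtain ⟨c, hc⟩ := hΓ.comm hmem
  exact ⟨c, by rw [hc]; group⟩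

/-- the commutator pairing -/
noncomputable def Good.e (g h : Γ) : kˣ := (hΓ.exists_e g h).choose

theorem Good.e_spec (g h : Γ) : g * h = ι (hΓ.e g h) * (h * g) := (hΓ.exists_e g h).choose_spec

theorem Good.e_eq {g h : Γ} {c : kˣ} (hc : g * h = ι c * (h * g)) : hΓ.e g h = c :=
  hΓ.inj (mul_right_cancel ((hΓ.e_spec g h).symm.trans hc))

theorem Good.e_eq_one_iff (g h : Γ) : hΓ.e g h = 1 ↔ g * h = h * g := by
  refine ⟨fun e => ?_, fun e => hΓ.e_eq (by rw [map_one, one_mul, e])⟩
  rw [hΓ.e_spec g h, e, map_one, one_mul]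

theorem Good.e_mul_left (g g' h : Γ) : hΓ.e (g * g') h = hΓ.e g h * hΓ.e g' h := by
  refine hΓ.e_eq ?_
  calc g * g' * h = g * (g' * h) := mul_assoc ..
    _ = ι (hΓ.e g' h) * (g * (h * g')) := by rw [hΓ.e_spec g' h, (hΓ.commute _ g).symm.left_comm]
    _ = ι (hΓ.e g' h) * (ι (hΓ.e g h) * (h * g) * g') := by rw [← mul_assoc g h, hΓ.e_spec g h]
    _ = _ := by rw [map_mul, (hΓ.commute (hΓ.e g h) (ι (hΓ.e g' h))).eq]; simp only [mul_assoc]

theorem Good.e_mul_right (g h h' : Γ) : hΓ.e g (h * h') = hΓ.e g h * hΓ.e g h' := by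
  refine hΓ.e_eq ?_
  calc g * (h * h') = g * h * h' := (mul_assoc ..).symm
    _ = ι (hΓ.e g h) * (h * (g * h')) := by rw [hΓ.e_spec g h]; simp only [mul_assoc]
    _ = ι (hΓ.e g h) * (ι (hΓ.e g h') * (h * (h' * g))) := by
      rw [hΓ.e_spec g h', (hΓ.commute _ h).symm.left_comm]
    _ = _ := by rw [map_mul]; simp only [mul_assoc]

theorem Good.e_iota_left (z : kˣ) (h : Γ) : hΓ.e (ι z) h = 1 := (hΓ.e_eq_one_iff _ _).2 (hΓ.commute z h)

theorem Good.e_iota_right (z : kˣ) (h : Γ) : hΓ.e h (ι z) = 1 :=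
  (hΓ.e_eq_one_iff _ _).2 (hΓ.commute z h).symm

variable {K : Type w} [CommGroup K] {q : Γ →* K} (hq : Function.Surjective q) (hker : q.ker = ι.range)

theorem Good.e_congr (hker : q.ker = ι.range) {g g' h h' : Γ} (hg : q g = q g') (hh : q h = q h') :
    hΓ.e g h = hΓ.e g' h' := by
  obtain ⟨a, ha⟩ : g'⁻¹ * g ∈ ι.range := hker ▸ (q.eq_iff.1 hg)
  obtain ⟨b, hb⟩ : h'⁻¹ * h ∈ ι.range := hker ▸ (q.eq_iff.1 hh)
  rw [show g = g' * ι a by rw [ha, mul_inv_cancel_left], show h = h' * ι b by rw [hb, mul_inv_cancel_left],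
    hΓ.e_mul_left, hΓ.e_iota_left, mul_one, hΓ.e_mul_right, hΓ.e_iota_right, mul_one]

/-- the pairing on the quotient -/
noncomputable def Good.pair : K →* (K →* kˣ) :=
  MonoidHom.mk' (fun x => MonoidHom.mk'
      (fun y => hΓ.e (Function.surjInv hq x) (Function.surjInv hq y)) fun y y' => by
        rw [← hΓ.e_mul_right]
        exact hΓ.e_congr hker rfl (by simp [map_mul, Function.surjInv_eq hq])) fun x x' => by
    refine MonoidHom.ext fun y => ?_
    show hΓ.e (Function.surjInv hq (x * x')) _ = hΓ.e _ _ * hΓ.e _ _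
    rw [← hΓ.e_mul_left]
    exact hΓ.e_congr hker (by simp [map_mul, Function.surjInv_eq hq]) rfl

theorem Good.pair_apply (g h : Γ) : hΓ.pair hq hker (q g) (q h) = hΓ.e g h :=
  hΓ.e_congr hker (Function.surjInv_eq hq _) (Function.surjInv_eq hq _)

theorem Good.pair_injective : Function.Injective (hΓ.pair hq hker) := by
  refine (injective_iff_map_eq_one _).2 fun x hx => ?_
  obtain ⟨g, rfl⟩ := hq x
  rw [← MonoidHom.mem_ker, hker, hΓ.cent, Subgroup.mem_center_iff]
  intro h
  refine ((hΓ.e_eq_one_iff g h).1 ?_).symm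
  rw [← hΓ.pair_apply hq hker, hx]
  rfl

variable [IsAlgClosed k] [Finite K] (hK : (Nat.card K : k) ≠ 0)
include hK

theorem Good.pair_surjective : Function.Surjective (hΓ.pair hq hker) := by
  have := hasEnough (G := K) hK
  have : Finite (K →* kˣ) :=
    .of_equiv K (CommGroup.monoidHom_mulEquiv_of_hasEnoughRootsOfUnity K k).some.symm.toEquiv
  exact ((hΓ.pair_injective hq hker).bijective_of_nat_card_le (card_char hK).le).2

/-- the pairing restricted to a subgroup -/
noncomputable def Good.restr (_hK : (Nat.card K : k) ≠ 0) (S : Subgroup K) : K →* (S →* kˣ) :=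
  (MonoidHom.domRestrictHom S kˣ).comp (hΓ.pair hq hker)

theorem Good.restr_surjective (S : Subgroup K) : Function.Surjective (hΓ.restr hq hker hK S) := by
  have := hasEnough (G := K) hK
  exact (MonoidHom.domRestrict_surjective k S).comp (hΓ.pair_surjective hq hker hK)

theorem Good.restr_apply (S : Subgroup K) (g h : Γ) (hh : q h ∈ S) :
    hΓ.restr hq hker hK S (q g) ⟨q h, hh⟩ = hΓ.e g h :=
  hΓ.pair_apply hq hker g h

theorem Good.card_orth (S : Subgroup K) :
    Nat.card (hΓ.restr hq hker hK S).ker * Nat.card S = Nat.card K := by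
  obtain ⟨c, hc⟩ := Subgroup.card_subgroup_dvd_card S
  have hS : (Nat.card S : k) ≠ 0 := fun h => hK (by rw [hc, Nat.cast_mul, h, zero_mul])
  rw [← Subgroup.card_mul_index (hΓ.restr hq hker hK S).ker, Subgroup.index_ker,
    MonoidHom.range_eq_top.2 (hΓ.restr_surjective hq hker hK S), Subgroup.card_top, card_char hS]

theorem Good.mem_orth_iff (S : Subgroup K) (x : Γ) :
    q x ∈ (hΓ.restr hq hker hK S).ker ↔ ∀ h, q h ∈ S → x * h = h * x := by
  rw [MonoidHom.mem_ker]
  constructor
  · intro hx h hh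
    rw [← hΓ.e_eq_one_iff, ← hΓ.restr_apply hq hker hK S x h hh, hx]
    rfl
  · intro hx
    refine MonoidHom.ext fun y => ?_
    obtain ⟨h, hh⟩ := hq y.1
    have hy : y = ⟨q h, hh ▸ y.2⟩ := Subtype.ext hh.symm
    rw [hy, hΓ.restr_apply, (hΓ.e_eq_one_iff x h).2 (hx h (hh ▸ y.2))]
    rfl

theorem Good.centralizer_eq (H : Subgroup Γ) (hH : ι.range ≤ H) :
    Subgroup.centralizer (H : Set Γ) = (hΓ.restr hq hker hK (H.map q)).ker.comap q := by
  ext x
  rw [Subgroup.mem_comap, hΓ.mem_orth_iff, Subgroup.mem_centralizer_iff]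
  refine forall_congr' fun h => ?_
  have : q h ∈ H.map q ↔ h ∈ H := by
    rw [← Subgroup.mem_comap, Subgroup.comap_map_eq_self (hker ▸ hH)]
  rw [this]
  exact ⟨fun e hh => (e hh).symm, fun e hh => (e hh).symm⟩

include hq hker in
theorem Good.tfae (H : Subgroup Γ) (hH : ι.range ≤ H) :
    List.TFAE [
      IsMulCommutative H ∧ ∀ H' : Subgroup Γ, IsMulCommutative H' → H ≤ H' → H' = H,
      IsMulCommutative H ∧ (ι.range.relIndex H) ^ 2 = ι.range.index,
      H = Subgroup.centralizer (H : Set Γ)] := by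
  have hrel : ι.range.relIndex H = Nat.card (H.map q) := by rw [← hker, Subgroup.relIndex_ker]
  have hidx : ι.range.index = Nat.card K := by
    rw [← hker, Subgroup.index_ker, MonoidHom.range_eq_top.2 hq, Subgroup.card_top]
  have hcard := hΓ.card_orth hq hker hK (H.map q)
  have hC := hΓ.centralizer_eq hq hker hK H hH
  rw [hrel, hidx]
  tfae_have 3 → 2 := fun h => by
    refine ⟨Subgroup.le_centralizer_iff_isMulCommutative.1 h.le, ?_⟩
    rw [← hcard, ← congrArg (Subgroup.map q) (h.trans hC) |>.trans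
      (Subgroup.map_comap_eq_self_of_surjective hq _), sq]
  tfae_have 2 → 3 := fun ⟨hc, h⟩ => by
    have hle : H.map q ≤ (hΓ.restr hq hker hK (H.map q)).ker := by
      rintro _ ⟨g, hg, rfl⟩
      have hg' := Subgroup.le_centralizer_iff_isMulCommutative.2 hc hg
      rw [hC] at hg'
      exact hg'
    have he : H.map q = (hΓ.restr hq hker hK (H.map q)).ker := by
      refine Subgroup.eq_of_le_of_card_ge hle (le_of_eq ?_)
      rw [sq] at h
      exact Nat.eq_of_mul_eq_mul_right Nat.card_pos (hcard.trans h.symm)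
    rw [hC, ← he, Subgroup.comap_map_eq_self (hker ▸ hH)]
  tfae_have 3 → 1 := fun h => ⟨Subgroup.le_centralizer_iff_isMulCommutative.1 h.le, fun H' hc hle =>
    le_antisymm ((Subgroup.le_centralizer_iff_isMulCommutative.2 hc).trans
      ((Subgroup.centralizer_le (s := (H : Set Γ)) hle).trans h.ge)) hle⟩
  tfae_have 1 → 3 := fun ⟨hc, hmax⟩ => by
    refine le_antisymm (Subgroup.le_centralizer_iff_isMulCommutative.2 hc) fun g hg => ?_
    have : IsMulCommutative (Subgroup.closure (insert g (H : Set Γ))) := by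
      refine Subgroup.isMulCommutative_closure fun a ha b hb => ?_
      have hHH := Subgroup.le_centralizer_iff_isMulCommutative.2 hc
      rcases ha with rfl | ha <;> rcases hb with rfl | hb
      · rfl
      · exact (Subgroup.mem_centralizer_iff.1 hg b hb).symm
      · exact Subgroup.mem_centralizer_iff.1 hg a ha
      · exact (Subgroup.mem_centralizer_iff.1 (hHH ha) b hb).symm
    have h := hmax _ this ((Set.subset_insert g _).trans Subgroup.subset_closure)
    exact h ▸ Subgroup.subset_closure (Set.mem_insert g _)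
  tfae_finish

end Groth.Agent.ThetaLib
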