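import Groth.Agent.ThetaLib.Pairing
import Mathlib.RepresentationTheory.Irreducible
import Mathlib.RepresentationTheory.Semisimple
import Mathlib.RepresentationTheory.Invariants
import Mathlib.LinearAlgebra.FreeModule.Finite.Matrix

/-!
Weight one representations of a non-degenerate theta group.
-/

set_option linter.unusedSectionVars false

universe u v w w'

namespace Groth.Agent.ThetaLib

open Representation

variable {k : Type u} [Field k] {Γ : Type v} [Group Γ] (ι : kˣ →* Γ)
  {V : Type w} [AddCommGroup V] [Module k V] {W : Type w'} [AddCommGroup W] [Module k W]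

/-- weight one -/
def Wt (ρ : Representation k Γ V) : Prop := ∀ (z : kˣ) (v : V), ρ (ι z) v = (z : k) • v

variable {ι} (hΓ : Good ι)
include hΓ

theorem wt_comm {ρ : Representation k Γ V} (hρ : Wt ι ρ) (a g : Γ) (v : V) :
    ρ a (ρ g v) = (hΓ.e a g : k) • ρ g (ρ a v) := by
  rw [← Module.End.mul_apply, ← map_mul, hΓ.e_spec a g, map_mul, map_mul, Module.End.mul_apply, hρ,
    Module.End.mul_apply]

variable {K : Type*} [CommGroup K] [Finite K] [IsAlgClosed k] {q : Γ →* K}
  (hq : Function.Surjective q) (hker : q.ker = ι.range) (hK : (Nat.card K : k) ≠ 0)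
include hK

theorem wt_linHom {ρ : Representation k Γ V} {τ : Representation k Γ W} (hρ : Wt ι ρ) (hτ : Wt ι τ)
    (z : kˣ) : linHom ρ τ (ι z) = 1 := by
  refine LinearMap.ext fun f => LinearMap.ext fun v => ?_
  rw [linHom_apply, Module.End.one_apply, LinearMap.comp_apply, LinearMap.comp_apply, hτ,
    ← map_inv ι, hρ, map_smul, smul_smul, Units.mul_inv, one_smul]

include hq hker in
theorem exists_quot_action {ρ : Representation k Γ V} {τ : Representation k Γ W} (hρ : Wt ι ρ)
    (hτ : Wt ι τ) :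
    ∃ σ : K →* Module.End k (V →ₗ[k] W), ∀ g f, σ (q g) f = τ g ∘ₗ f ∘ₗ ρ g⁻¹ := by
  have hwd : ∀ g g' : Γ, q g = q g' → linHom ρ τ g = linHom ρ τ g' := by
    intro g g' h
    obtain ⟨z, hz⟩ : g'⁻¹ * g ∈ ι.range := hker ▸ (q.eq_iff.1 h)
    rw [show g = g' * ι z by rw [hz, mul_inv_cancel_left], map_mul, wt_linHom hΓ hK hρ hτ z, mul_one]
  let σ : K →* Module.End k (V →ₗ[k] W) :=
    { toFun := fun x => linHom ρ τ (Function.surjInv hq x)
      map_one' := by rw [hwd _ 1 (by rw [Function.surjInv_eq hq, map_one]), map_one]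
      map_mul' := fun x y => by
        rw [← map_mul]
        exact hwd _ _ (by rw [map_mul]; simp [Function.surjInv_eq hq]) }
  refine ⟨σ, fun g f => ?_⟩
  show linHom ρ τ (Function.surjInv hq (q g)) f = _
  rw [hwd _ g (Function.surjInv_eq hq _)]
  rfl

include hq hker in
theorem finrank_hom [FiniteDimensional k V] [FiniteDimensional k W] {ρ : Representation k Γ V}
    {τ : Representation k Γ W} (hρ : Wt ι ρ) (hτ : Wt ι τ) :
    Module.finrank k V * Module.finrank k W =
      Nat.card K * Module.finrank k (IntertwiningMap ρ τ) := by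
  obtain ⟨σ, hσ⟩ := exists_quot_action hΓ hq hker hK hρ hτ
  have h1 : eig σ 1 = (linHom ρ τ).invariants := by
    ext f
    rw [mem_eig, mem_invariants]
    refine ⟨fun h g => ?_, fun h x => ?_⟩
    · rw [linHom_apply, ← hσ g f, h (q g), MonoidHom.one_apply, Units.val_one, one_smul]
    · obtain ⟨g, rfl⟩ := hq x
      rw [hσ, ← linHom_apply, h g, MonoidHom.one_apply, Units.val_one, one_smul]
  have hE : ∀ g : Γ, ∀ (χ ψ : K →* kˣ), (∀ a, ψ (q a) = χ (q a) * hΓ.e a g) →
      Module.finrank k (eig σ χ) ≤ Module.finrank k (eig σ ψ) := by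
    intro g χ ψ hψ
    have hmap : ∀ f ∈ eig σ χ, τ g ∘ₗ f ∈ eig σ ψ := by
      intro f hf x
      obtain ⟨a, rfl⟩ := hq x
      refine LinearMap.ext fun v => ?_
      have hf' := LinearMap.congr_fun (hf (q a)) v
      rw [hσ] at hf'
      simp only [LinearMap.comp_apply, LinearMap.smul_apply] at hf'
      rw [hσ, LinearMap.comp_apply, LinearMap.comp_apply, LinearMap.smul_apply,
        LinearMap.comp_apply, LinearMap.comp_apply, wt_comm hΓ hτ, hf', map_smul, smul_smul, hψ,
        Units.val_mul, mul_comm]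
    refine LinearMap.finrank_le_finrank_of_injective
      (f := (LinearMap.llcomp k V W W (τ g)).restrict hmap) fun f f' h => ?_
    refine Subtype.ext (LinearMap.ext fun v => ?_)
    have h' := LinearMap.congr_fun (congrArg Subtype.val h) v
    exact (τ.apply_bijective g).1 h'
  have key : ∀ χ, Module.finrank k (eig σ χ) = Module.finrank k (eig σ 1) := by
    intro χ
    obtain ⟨x, hx⟩ := hΓ.pair_surjective hq hker hK χ⁻¹
    obtain ⟨g, rfl⟩ := hq x
    have he : ∀ a, hΓ.e a g = χ (q a) := by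
      intro a
      have h2 : hΓ.e g a * hΓ.e a g = 1 := by
        rw [← (hΓ.e_eq_one_iff (g * a) (g * a)).2 rfl, hΓ.e_mul_left, hΓ.e_mul_right,
          hΓ.e_mul_right, (hΓ.e_eq_one_iff g g).2 rfl, (hΓ.e_eq_one_iff a a).2 rfl, one_mul, mul_one]
      rw [eq_inv_of_mul_eq_one_right h2, ← hΓ.pair_apply hq hker, hx, MonoidHom.inv_apply, inv_inv]
    refine le_antisymm (hE g⁻¹ χ 1 fun a => ?_) (hE g 1 χ fun a => by rw [he]; simp)
    have h2 : hΓ.e a g⁻¹ * hΓ.e a g = 1 := by
      rw [← hΓ.e_mul_right, inv_mul_cancel, ← map_one ι, hΓ.e_iota_right]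
    rw [MonoidHom.one_apply, eq_inv_of_mul_eq_one_left h2, he, mul_inv_cancel]
  rw [← Module.finrank_linearMap k k V W, finrank_eq_card_mul σ hK key, h1,
    (invariantsEquivIntertwiningMap ρ τ).finrank_eq]

theorem isSemisimple [FiniteDimensional k V] {ρ : Representation k Γ V} (hρ : Wt ι ρ)
    (hq : Function.Surjective q) (hker : q.ker = ι.range) : IsSemisimpleRepresentation ρ := by
  classical
  have := Fintype.ofFinite K
  obtain ⟨σ, hσ⟩ := exists_quot_action hΓ hq hker hK hρ hρ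
  refine ⟨fun U => ?_⟩
  obtain ⟨π, hπ⟩ := Submodule.exists_isCompl U.toSubmodule
  let p : V →ₗ[k] V := (U.toSubmodule.subtype).comp (U.toSubmodule.projectionOnto π hπ)
  let P : V →ₗ[k] V := (Nat.card K : k)⁻¹ • ∑ x : K, σ x p
  have hPσ : ∀ y, σ y P = P := by
    intro y
    rw [map_smul, map_sum]
    congr 1
    exact Fintype.sum_equiv (Equiv.mulLeft y) _ _ fun x => by
      rw [Equiv.coe_mulLeft, map_mul, Module.End.mul_apply]
  have hPcomm : ∀ g v, P (ρ g v) = ρ g (P v) := by
    intro g v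
    have := LinearMap.congr_fun (hPσ (q g)) (ρ g v)
    rw [hσ, LinearMap.comp_apply, LinearMap.comp_apply, ρ.inv_self_apply] at this
    exact this.symm
  have hPeval : ∀ v, P v = (Nat.card K : k)⁻¹ • ∑ x : K, σ x p v := fun v => by
    rw [LinearMap.smul_apply, LinearMap.sum_apply]
  have hPU : ∀ v, P v ∈ U.toSubmodule := by
    intro v
    rw [hPeval]
    refine Submodule.smul_mem _ _ (Submodule.sum_mem _ fun x _ => ?_)
    obtain ⟨g, rfl⟩ := hq x
    rw [hσ]
    exact U.apply_mem_toSubmodule g (SetLike.coe_mem _)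
  have hPid : ∀ v ∈ U.toSubmodule, P v = v := by
    intro v hv
    rw [hPeval, Finset.sum_eq_card_nsmul (b := v), Finset.card_univ, ← Nat.card_eq_fintype_card,
      ← Nat.cast_smul_eq_nsmul k, smul_smul, inv_mul_cancel₀ hK, one_smul]
    intro x _
    obtain ⟨g, rfl⟩ := hq x
    have hv' : ρ g⁻¹ v ∈ U.toSubmodule := U.apply_mem_toSubmodule g⁻¹ hv
    rw [hσ, LinearMap.comp_apply, LinearMap.comp_apply,
      show p (ρ g⁻¹ v) = ρ g⁻¹ v from congrArg Subtype.val
        (Submodule.projectionOnto_apply_left hπ ⟨_, hv'⟩), ρ.self_inv_apply]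
  refine ⟨⟨LinearMap.ker P, fun g v hv => ?_⟩, ?_, ?_⟩
  · rw [LinearMap.mem_ker] at hv ⊢
    rw [hPcomm, hv, map_zero]
  · rw [disjoint_iff]
    refine Subrepresentation.toSubmodule_injective ((Submodule.eq_bot_iff _).2 fun v hv => ?_)
    rw [← hPid v hv.1]
    exact hv.2
  · rw [codisjoint_iff]
    refine Subrepresentation.toSubmodule_injective (eq_top_iff.2 fun v _ => ?_)
    refine Submodule.mem_sup.2 ⟨P v, hPU v, v - P v, ?_, add_sub_cancel _ _⟩
    rw [LinearMap.mem_ker, map_sub, hPid (P v) (hPU v), sub_self]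

theorem exists_transversal (hq : Function.Surjective q) (hker : q.ker = ι.range) (H : Subgroup Γ)
    (hH : H ⊓ ι.range = ⊥) (hmax : ∀ H' : Subgroup Γ, H' ⊓ ι.range = ⊥ → H ≤ H' → H' = H) :
    Function.Injective (q.comp H.subtype) ∧ Nat.card (H.map q) ^ 2 = Nat.card K := by
  have hinj : Function.Injective (q.comp H.subtype) := by
    refine (injective_iff_map_eq_one _).2 fun x hx => Subtype.ext ?_
    have hmem : (x : Γ) ∈ H ⊓ ι.range := ⟨x.2, hker ▸ (MonoidHom.mem_ker.2 hx)⟩
    rw [hH] at hmem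
    exact Subgroup.mem_bot.1 hmem
  refine ⟨hinj, ?_⟩
  set S := H.map q with hS
  have hHcomm : ∀ a ∈ H, ∀ b ∈ H, a * b = b * a := fun a ha b hb =>
    congrArg Subtype.val (hinj (a₁ := (⟨a, ha⟩ : H) * ⟨b, hb⟩) (a₂ := ⟨b, hb⟩ * ⟨a, ha⟩)
      (by rw [map_mul, map_mul, mul_comm]))
  have horth : (hΓ.restr hq hker hK S).ker = S := by
    refine le_antisymm (fun x hx => ?_) ?_
    · obtain ⟨g, rfl⟩ := hq x
      rw [hΓ.mem_orth_iff] at hx
      by_contra hgS
      have hm : 0 < orderOf (q g : K ⧸ S) := orderOf_pos _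
      set m := orderOf (q g : K ⧸ S) with hmdef
      have hmS : q g ^ m ∈ S := by
        rw [← QuotientGroup.eq_one_iff, QuotientGroup.mk_pow]
        exact pow_orderOf_eq_one _
      obtain ⟨h, hh, hqh⟩ := hmS
      obtain ⟨z, hz⟩ : h⁻¹ * g ^ m ∈ ι.range := by
        rw [← hker, MonoidHom.mem_ker, map_mul, map_inv, hqh, map_pow, inv_mul_cancel]
      obtain ⟨w, hw⟩ := IsAlgClosed.exists_pow_nat_eq (z : k) hm
      have hw0 : w ≠ 0 := fun e => z.ne_zero (by rw [← hw, e, zero_pow hm.ne'])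
      set g' := g * ι (Units.mk0 w hw0)⁻¹ with hg'
      have hqg' : q g' = q g := by
        rw [hg', map_mul, show q (ι (Units.mk0 w hw0)⁻¹) = 1 from
          MonoidHom.mem_ker.1 (hker ▸ ⟨_, rfl⟩), mul_one]
      have hg'm : g' ^ m = h := by
        rw [hg', (hΓ.commute _ g).symm.mul_pow, ← map_pow, inv_pow,
          show (Units.mk0 w hw0) ^ m = z from Units.ext (by simp [hw]), map_inv, mul_inv_eq_iff_eq_mul,
          hz, mul_inv_cancel_left]
      have hcomm' : ∀ a ∈ H, Commute g' a := fun a ha =>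
        (show Commute g a from hx a ⟨a, ha, rfl⟩).mul_left (hΓ.commute _ a)
      let H' : Subgroup Γ :=
        { carrier := {y | ∃ a ∈ H, ∃ j : ℤ, y = a * g' ^ j}
          one_mem' := ⟨1, H.one_mem, 0, by simp⟩
          mul_mem' := by
            rintro _ _ ⟨a, ha, i, rfl⟩ ⟨b, hb, j, rfl⟩
            exact ⟨a * b, H.mul_mem ha hb, i + j, by
              rw [zpow_add, mul_assoc, ← mul_assoc (g' ^ i), ((hcomm' b hb).zpow_left i).eq]
              simp only [mul_assoc]⟩
          inv_mem' := by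
            rintro _ ⟨a, ha, i, rfl⟩
            exact ⟨a⁻¹, H.inv_mem ha, -i, by
              rw [mul_inv_rev, ← zpow_neg, ((hcomm' _ (H.inv_mem ha)).zpow_left (-i)).eq]⟩ }
      have hHH' : H ≤ H' := fun a ha => ⟨a, ha, 0, by simp⟩
      have hbot : H' ⊓ ι.range = ⊥ := by
        refine (Subgroup.eq_bot_iff_forall _).2 ?_
        rintro _ ⟨⟨a, ha, j, rfl⟩, hmem⟩
        rw [← hker] at hmem
        replace hmem : q (a * g' ^ j) = 1 := hmem
        rw [map_mul, map_zpow, hqg'] at hmem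
        have hjS : ((q g : K ⧸ S)) ^ j = 1 := by
          rw [← QuotientGroup.mk_zpow, QuotientGroup.eq_one_iff, ← inv_eq_of_mul_eq_one_right hmem]
          exact S.inv_mem ⟨a, ha, rfl⟩
        obtain ⟨t, rfl⟩ := orderOf_dvd_iff_zpow_eq_one.2 hjS
        have hin : a * g' ^ ((m : ℤ) * t) ∈ H := by
          rw [zpow_mul, zpow_natCast, hg'm]
          exact H.mul_mem ha (H.zpow_mem hh t)
        have h2 : a * g' ^ ((m : ℤ) * t) ∈ H ⊓ ι.range := by
          refine ⟨hin, ?_⟩
          rw [← hker]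
          show q (a * g' ^ ((m : ℤ) * t)) = 1
          rw [map_mul, map_zpow, hqg']
          exact hmem
        rw [hH] at h2
        exact Subgroup.mem_bot.1 h2
      have hmem' : g' ∈ H := hmax H' hbot hHH' ▸ ⟨1, H.one_mem, 1, by simp⟩
      exact hgS ⟨g', hmem', hqg'⟩
    · rintro _ ⟨a, ha, rfl⟩
      rw [hΓ.mem_orth_iff]
      rintro b ⟨b', hb', hbb⟩
      obtain ⟨c, hc⟩ : b'⁻¹ * b ∈ ι.range := by rw [← hker, MonoidHom.mem_ker, map_mul, map_inv, hbb, inv_mul_cancel]
      rw [show b = b' * ι c by rw [hc, mul_inv_cancel_left]]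
      exact (show Commute a b' from hHcomm a ha b' hb').mul_right (hΓ.commute c a).symm
  have := hΓ.card_orth hq hker hK S
  rwa [horth, ← sq] at this

theorem finrank_level [FiniteDimensional k V] {ρ : Representation k Γ V} (hρ : Wt ι ρ)
    (hq : Function.Surjective q) (hker : q.ker = ι.range) (H : Subgroup Γ)
    (hinj : Function.Injective (q.comp H.subtype)) :
    Module.finrank k V = Nat.card (H.map q) * Module.finrank k (invariants (ρ.comp H.subtype)) := by
  set S := H.map q with hS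
  let φ : H →* S := (q.comp H.subtype).codRestrict S fun x => ⟨x, x.2, rfl⟩
  have hφ : Function.Bijective φ :=
    ⟨fun a b h => hinj (congrArg Subtype.val h), fun ⟨_, y, hy, rfl⟩ => ⟨⟨y, hy⟩, rfl⟩⟩
  let eS : S ≃* H := (MulEquiv.ofBijective φ hφ).symm
  let σ : S →* Module.End k V := (ρ.comp H.subtype).comp eS.toMonoidHom
  have h1 : eig σ 1 = invariants (ρ.comp H.subtype) := by
    ext v
    rw [mem_eig, mem_invariants]
    refine ⟨fun h x => ?_, fun h x => ?_⟩
    · have := h (eS.symm x)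
      simpa [σ] using this
    · simpa [σ] using h (eS x)
  have hS' : (Nat.card S : k) ≠ 0 := by
    obtain ⟨c, hc⟩ := Subgroup.card_subgroup_dvd_card S
    intro h
    exact hK (by rw [hc, Nat.cast_mul, h, zero_mul])
  have hE : ∀ g : Γ, ∀ χ ψ : S →* kˣ, (∀ x : S, ψ x = χ x * hΓ.e (eS x : Γ) g) →
      Module.finrank k (eig σ χ) ≤ Module.finrank k (eig σ ψ) := by
    intro g χ ψ hψ
    have hmap : ∀ v ∈ eig σ χ, ρ g v ∈ eig σ ψ := by
      intro v hv x
      have hv' : ρ (eS x : Γ) v = (χ x : k) • v := hv x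
      show ρ (eS x : Γ) (ρ g v) = _
      rw [wt_comm hΓ hρ, hv', map_smul, smul_smul, hψ, Units.val_mul, mul_comm]
    exact LinearMap.finrank_le_finrank_of_injective (f := (ρ g).restrict hmap) fun a b h =>
      Subtype.ext ((ρ.apply_bijective g).1 (congrArg Subtype.val h))
  rw [← h1]
  refine finrank_eq_card_mul σ hS' fun χ => ?_
  obtain ⟨x, hx⟩ := hΓ.restr_surjective hq hker hK S χ⁻¹
  obtain ⟨g, rfl⟩ := hq x
  have he : ∀ y : S, hΓ.e (eS y : Γ) g = χ y := by
    intro y
    have hy : q (eS y : Γ) = y.1 := congrArg Subtype.val ((MulEquiv.ofBijective φ hφ).apply_symm_apply y)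
    set a := (eS y : Γ)
    have h2 : hΓ.e g a * hΓ.e a g = 1 := by
      rw [← (hΓ.e_eq_one_iff (g * a) (g * a)).2 rfl, hΓ.e_mul_left, hΓ.e_mul_right,
        hΓ.e_mul_right, (hΓ.e_eq_one_iff g g).2 rfl, (hΓ.e_eq_one_iff a a).2 rfl, one_mul, mul_one]
    rw [eq_inv_of_mul_eq_one_right h2, ← hΓ.restr_apply hq hker hK S g a (hy ▸ y.2), hx,
      MonoidHom.inv_apply, inv_inv]
    exact congrArg χ (Subtype.ext hy)
  refine le_antisymm (hE g⁻¹ χ 1 fun y => ?_) (hE g 1 χ fun y => by rw [he]; simp)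
  have h2 : hΓ.e (eS y : Γ) g⁻¹ * hΓ.e (eS y : Γ) g = 1 := by
    rw [← hΓ.e_mul_right, inv_mul_cancel, ← map_one ι, hΓ.e_iota_right]
  rw [MonoidHom.one_apply, eq_inv_of_mul_eq_one_left h2, he, mul_inv_cancel]

end Groth.Agent.ThetaLib
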